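import Cfsg.Agent.H552.LD.Part

/-!
# Representatives of the 15 classes of `S₇` and the products with the 21 transpositions (helper552)
-/

set_option autoImplicit false

namespace Cfsg.Agent.H552.LD.SevenTab

open Cfsg Cfsg.Agent.H614 Cfsg.Agent.H552.LD.Part Equiv Finset

def fn (c : ℕ) : Fin 7 → Fin 7 := fun i => Fin.ofNat 7 (c / 8 ^ (i : ℕ) % 8)

noncomputable def P (c : ℕ) : Perm (Fin 7) :=
  if h : Function.Bijective (fn c) then Equiv.ofBijective (fn c) h else 1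

theorem P_apply {c : ℕ} (h : Function.Injective (fn c)) (i : Fin 7) : P c i = fn c i := by
  unfold P
  rw [dif_pos (Finite.injective_iff_bijective.1 h)]
  rfl

def RL : List ℕ := [1754760, 1754753, 1754305, 1725633, 1754641, 1751057, 1521681, 1693713,
  1753297, 1724625, 1265873, 1738961, 1509585, 1595601, 219345]

def Rn (k : Fin 15) : ℕ := RL.getD k 0

/-- representatives of the 15 classes -/
noncomputable def R (k : Fin 15) : Perm (Fin 7) := P (Rn k)

def AL : List ℕ := [0, 0, 0, 0, 0, 0, 1, 1, 1, 1, 1, 2, 2, 2, 2, 3, 3, 3, 4, 4, 5]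
def BL : List ℕ := [1, 2, 3, 4, 5, 6, 2, 3, 4, 5, 6, 3, 4, 5, 6, 4, 5, 6, 5, 6, 6]

def ta (n : Fin 21) : Fin 7 := Fin.ofNat 7 (AL.getD n 0)
def tb (n : Fin 21) : Fin 7 := Fin.ofNat 7 (BL.getD n 0)

/-- the 21 transpositions -/
def tr (n : Fin 21) : Perm (Fin 7) := swap (ta n) (tb n)

def CL : List (List ℕ) := [[1, 1, 1, 1, 1, 1, 1, 1, 1, 1, 1, 1, 1, 1, 1, 1, 1, 1, 1, 1, 1],
  [0, 4, 4, 4, 4, 4, 4, 4, 4, 4, 4, 2, 2, 2, 2, 2, 2, 2, 2, 2, 2],
  [1, 8, 8, 5, 5, 5, 8, 8, 5, 5, 5, 1, 5, 5, 5, 5, 5, 5, 3, 3, 3],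
  [2, 9, 9, 9, 9, 6, 9, 9, 9, 9, 6, 2, 9, 9, 6, 9, 9, 6, 2, 6, 6],
  [1, 1, 8, 8, 8, 8, 1, 8, 8, 8, 8, 8, 8, 8, 8, 5, 5, 5, 5, 5, 5],
  [2, 2, 11, 11, 9, 9, 2, 11, 11, 9, 9, 11, 11, 9, 9, 4, 7, 7, 7, 7, 6],
  [3, 3, 12, 12, 12, 12, 3, 12, 12, 12, 12, 12, 12, 12, 12, 5, 10, 10, 10, 10, 5],
  [5, 5, 13, 13, 13, 10, 5, 13, 13, 13, 10, 13, 13, 13, 10, 5, 5, 10, 5, 10, 10],
  [4, 2, 4, 11, 11, 11, 4, 2, 11, 11, 11, 4, 11, 11, 11, 11, 11, 11, 9, 9, 9],
  [5, 3, 5, 13, 13, 12, 5, 3, 13, 13, 12, 5, 13, 13, 12, 13, 13, 12, 8, 10, 10],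
  [7, 6, 7, 14, 14, 14, 7, 6, 14, 14, 14, 7, 14, 14, 14, 14, 14, 14, 9, 9, 9],
  [8, 5, 5, 8, 13, 13, 8, 5, 5, 13, 13, 8, 5, 13, 13, 8, 13, 13, 13, 13, 12],
  [9, 6, 6, 9, 14, 14, 9, 6, 6, 14, 14, 9, 6, 14, 14, 9, 14, 14, 14, 14, 11],
  [11, 9, 7, 9, 11, 14, 11, 9, 7, 9, 14, 11, 9, 7, 14, 11, 9, 14, 11, 14, 14],
  [13, 12, 10, 10, 12, 13, 13, 12, 10, 10, 12, 13, 12, 10, 10, 13, 12, 10, 13, 12, 13]]

/-- the class of `R k * tr n` -/
def C (k : Fin 15) (n : Fin 21) : Fin 15 := Fin.ofNat 15 ((CL.getD k []).getD n 0)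

def WL : List (List ℕ) := [[1754760, 1754704, 1754200, 1750112, 1717352, 1455216, 1754641, 1754137, 1750049, 1717289, 1455153, 1753626,
    1749538, 1716778, 1454642, 1745443, 1712683, 1450547, 1679916, 1417780, 1155637],
  [1754760, 1754704, 1754200, 1750112, 1717352, 1455216, 1754760, 1754312, 1750280, 1717576, 1455496, 1754760,
    1751176, 1718920, 1457288, 1747144, 1714888, 1453256, 1682184, 1420552, 1158472],
  [1753626, 1753752, 1753808, 1750112, 1717352, 1455216, 1754312, 1754760, 1750280, 1717576, 1455496, 1754760,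
    1741026, 1708266, 1446130, 1741082, 1708378, 1446298, 1754760, 1525384, 1267336],
  [1608474, 1753752, 1753808, 1680168, 1680224, 1455216, 1754312, 1754760, 1681736, 1682184, 1455496, 1682184,
    1607466, 1607522, 1446130, 1608026, 1608474, 1446298, 1754760, 856436, 856492],
  [1754704, 1754641, 1754200, 1750112, 1717352, 1455216, 1754760, 1754312, 1750280, 1717576, 1455496, 1754760,
    1751176, 1718920, 1457288, 1754760, 1726088, 1468040, 1693832, 1435784, 1174152],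
  [1743056, 1738961, 1745632, 1745688, 1717352, 1455216, 1747144, 1746696, 1747144, 1717576, 1455496, 1751176,
    1754760, 1718920, 1457288, 1754760, 1726088, 1468040, 1754760, 1525384, 1754760],
  [481488, 219345, 1745632, 1745688, 1155952, 1156008, 743624, 1746696, 1747144, 1158024, 1158472, 1751176,
    1754760, 1170568, 1174152, 1174152, 559475, 559531, 560035, 560483, 1754760],
  [1614179, 1581923, 1644384, 1644776, 1645336, 1455216, 1642851, 1653512, 1656648, 1661128, 1455496, 1693832,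
    1718920, 1754760, 1457288, 1726088, 1693832, 559923, 1754760, 560035, 560483],
  [1753808, 1754200, 1753297, 1750112, 1717352, 1455216, 1754312, 1754760, 1750280, 1717576, 1455496, 1754760,
    1751176, 1718920, 1457288, 1754760, 1726088, 1468040, 1754760, 1525384, 1267336],
  [1628368, 1754200, 1595601, 1680168, 1680224, 1455216, 1661128, 1754760, 1681736, 1682184, 1455496, 1693832,
    1690248, 1693832, 1457288, 1726088, 1754760, 1468040, 1754760, 1525384, 1754760],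
  [481488, 569772, 219345, 858536, 858928, 859488, 743624, 856492, 871752, 874888, 879368, 1005704, 944776,
    969864, 1005704, 1267336, 1468040, 1754760, 1525384, 1267336, 1754760],
  [1743056, 1745688, 1753297, 1738961, 1717352, 1455216, 1747144, 1750280, 1741082, 1717576, 1455496, 1751176,
    1754760, 1718920, 1457288, 1754760, 1726088, 1468040, 1754760, 1525384, 1754760],
  [481488, 1745688, 1753297, 219345, 1155952, 1156008, 743624, 1750280, 1741082, 1158024, 1158472, 1005704,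
    1754760, 1170568, 1174152, 1267336, 1238664, 1267336, 1525384, 1754760, 1754760],
  [1628368, 1645336, 1680224, 1738961, 1595601, 1455216, 1661128, 1682184, 1717576, 1608474, 1455496, 1693832,
    1718920, 1754760, 1457288, 1726088, 1754760, 1468040, 1754760, 1525384, 1754760],
  [481488, 584472, 859488, 1738961, 1595601, 219345, 743624, 879368, 1158472, 1608474, 289562, 1005704, 1174152,
    1457288, 560483, 1267336, 1468040, 1754760, 1525384, 1754760, 1754760]]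

def Wn (k : Fin 15) (n : Fin 21) : ℕ := (WL.getD k []).getD n 0

theorem ta_lt_tb : ∀ n : Fin 21, ta n < tb n := by decide +kernel

theorem tab_inj : ∀ n m : Fin 21, ta n = ta m → tb n = tb m → n = m := by decide +kernel

theorem tr_inj : Function.Injective tr := by
  intro n m h
  have h1 := ta_lt_tb n
  have h2 := ta_lt_tb m
  have h3 : swap (ta n) (tb n) = swap (ta m) (tb m) := h
  have h4 : swap (ta n) (tb n) (ta n) = swap (ta m) (tb m) (ta n) := by rw [h3]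
  have h5 : swap (ta n) (tb n) (tb n) = swap (ta m) (tb m) (tb n) := by rw [h3]
  rw [swap_apply_left] at h4
  rw [swap_apply_right] at h5
  by_cases e1 : ta n = ta m
  · refine tab_inj n m e1 ?_
    rw [e1, swap_apply_left] at h4
    exact h4
  · by_cases e2 : ta n = tb m
    · rw [e2, swap_apply_right] at h4
      rw [e2, h4] at h1
      exact absurd h1 (not_lt.2 h2.le)
    · rw [swap_apply_of_ne_of_ne e1 e2] at h4
      exact absurd h4 h1.ne'

theorem exists_tab : ∀ a b : Fin 7, a < b → ∃ n : Fin 21, ta n = a ∧ tb n = b := by decide +kernel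

theorem exists_tr (a b : Fin 7) (hab : a ≠ b) : ∃ n : Fin 21, tr n = swap a b := by
  rcases lt_or_gt_of_ne hab with h | h
  · obtain ⟨n, h1, h2⟩ := exists_tab a b h
    exact ⟨n, by unfold tr; rw [h1, h2]⟩
  · obtain ⟨n, h1, h2⟩ := exists_tab b a h
    exact ⟨n, by unfold tr; rw [h1, h2, swap_comm]⟩

theorem isSwap_tr (n : Fin 21) : (tr n).IsSwap := ⟨_, _, (ta_lt_tb n).ne, rfl⟩

/-- the transposition as a function -/
def sf (a b x : Fin 7) : Fin 7 := if x = a then b else if x = b then a else x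

theorem swap_eq (a b x : Fin 7) : swap a b x = sf a b x := by
  rw [swap_apply_def]; rfl

theorem R_inj : ∀ k : Fin 15, ∀ i j : Fin 7, fn (Rn k) i = fn (Rn k) j → i = j := by decide +kernel

theorem W_inj : ∀ k : Fin 15, ∀ n : Fin 21, ∀ i j : Fin 7, fn (Wn k n) i = fn (Wn k n) j → i = j := by decide +kernel

theorem W_fn : ∀ k : Fin 15, ∀ n : Fin 21, ∀ i : Fin 7,
    fn (Wn k n) (fn (Rn (C k n)) i) = fn (Rn k) (sf (ta n) (tb n) (fn (Wn k n) i)) := by decide +kernel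

theorem W_spec (k : Fin 15) (n : Fin 21) : P (Wn k n) * R (C k n) = (R k * tr n) * P (Wn k n) := by
  ext i
  have hW : Function.Injective (fn (Wn k n)) := fun i j h => W_inj k n i j h
  have hR : ∀ k, Function.Injective (fn (Rn k)) := fun k i j h => R_inj k i j h
  rw [Perm.mul_apply, Perm.mul_apply, Perm.mul_apply, P_apply hW, P_apply hW]
  unfold R tr
  rw [P_apply (hR _), P_apply (hR _), swap_eq, W_fn]

def ML : List (List ℕ) := [[0, 21, 0, 0, 0, 0, 0, 0, 0, 0, 0, 0, 0, 0, 0],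
  [1, 0, 10, 0, 10, 0, 0, 0, 0, 0, 0, 0, 0, 0, 0],
  [0, 2, 0, 3, 0, 12, 0, 0, 4, 0, 0, 0, 0, 0, 0],
  [0, 0, 3, 0, 0, 0, 6, 0, 0, 12, 0, 0, 0, 0, 0],
  [0, 3, 0, 0, 0, 6, 0, 0, 12, 0, 0, 0, 0, 0, 0],
  [0, 0, 3, 0, 1, 0, 1, 4, 0, 6, 0, 6, 0, 0, 0],
  [0, 0, 0, 3, 0, 2, 0, 0, 0, 0, 4, 0, 12, 0, 0],
  [0, 0, 0, 0, 0, 6, 0, 0, 0, 0, 6, 0, 0, 9, 0],
  [0, 0, 2, 0, 4, 0, 0, 0, 0, 3, 0, 12, 0, 0, 0],
  [0, 0, 0, 2, 0, 4, 0, 0, 1, 0, 2, 0, 4, 8, 0],
  [0, 0, 0, 0, 0, 0, 2, 4, 0, 3, 0, 0, 0, 0, 12],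
  [0, 0, 0, 0, 0, 5, 0, 0, 5, 0, 0, 0, 1, 10, 0],
  [0, 0, 0, 0, 0, 0, 5, 0, 0, 5, 0, 1, 0, 0, 10],
  [0, 0, 0, 0, 0, 0, 0, 3, 0, 6, 0, 6, 0, 0, 6],
  [0, 0, 0, 0, 0, 0, 0, 0, 0, 0, 7, 0, 7, 7, 0]]

def Mt (k j : Fin 15) : ℕ := (ML.getD k []).getD j 0

theorem count_C : ∀ k j : Fin 15, #{n | C k n = j} = Mt k j := by decide +kernel

end Cfsg.Agent.H552.LD.SevenTab
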