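import Cfsg.Agent.H552.LD.SevenChar
import Cfsg.Agent.H552.LD.SevenPerm

/-!
# Two 5-defect zero characters of `S₇` and the transposition class sum modulo 5 (helper552)

`phi15` = [5,1,1] (degree 15), `phi35` = [3,2,1,1] (degree 35), both with value `-1` at `(12)(34)`.
`main15`, `main35` : the multiplicities modulo 5 of these two characters in an integer valued class function `psi` of
`S₇` that is, modulo 5, an eigenvector of the class sum of the transpositions with eigenvalue 2 and vanishes modulo 5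
at 1, at the transpositions and at the elements of order divisible by 5.
-/

set_option autoImplicit false

namespace Cfsg.Agent.H552.LD.SevenTab

open Cfsg Cfsg.Agent.H614 Cfsg.Agent.H552.LD.Part Equiv Finset

/-! ### The types of the representatives -/

def OL : List ℕ := [1, 2, 2, 2, 3, 6, 6, 3, 4, 4, 12, 5, 10, 6, 7]

theorem R_inj' (k : Fin 15) : Function.Injective (fn (Rn k)) := fun i j h => R_inj k i j h

theorem R_coe (k : Fin 15) : ⇑(R k) = fn (Rn k) := funext fun i => P_apply (R_inj' k) i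

theorem fn_order : ∀ k : Fin 15, (∀ i, (fn (Rn k))^[OL.getD k 0] i = i) ∧
    ∀ m < OL.getD k 0, 0 < m → ∃ i, (fn (Rn k))^[m] i ≠ i := by decide +kernel

theorem orderOf_R (k : Fin 15) : orderOf (R k) = OL.getD k 0 := by
  obtain ⟨h1, h2⟩ := fn_order k
  have h0 : ∀ k : Fin 15, 0 < OL.getD k 0 := by decide +kernel
  rw [orderOf_eq_iff (h0 k)]
  refine ⟨?_, fun m hm h h3 => ?_⟩
  · ext i
    rw [← Perm.iterate_eq_pow, R_coe, h1 i, Perm.one_apply]
  · obtain ⟨i, hi⟩ := h2 m hm h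
    apply hi
    rw [← R_coe, Perm.iterate_eq_pow, h3, Perm.one_apply]

theorem support_R (k : Fin 15) : (R k).support = univ.filter (fun i => fn (Rn k) i ≠ i) := by
  ext i
  rw [Perm.mem_support, R_coe, Finset.mem_filter]
  simp

def lc : List ℕ → ℕ
  | [] => 1
  | a :: l => Nat.lcm (if 2 ≤ a then a else 1) (lc l)

def sm : List ℕ → ℕ
  | [] => 0
  | a :: l => (if 2 ≤ a then a else 0) + sm l

theorem lc_eq (l : List ℕ) : (((l : Multiset ℕ).filter (fun i => 2 ≤ i)).lcm) = lc l := by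
  induction l with
  | nil => simp [lc]
  | cons a l ih =>
    rw [← Multiset.cons_coe, lc, ← ih]
    by_cases h : 2 ≤ a
    · rw [Multiset.filter_cons_of_pos _ h, Multiset.lcm_cons, if_pos h]; rfl
    · rw [Multiset.filter_cons_of_neg _ h, if_neg h, Nat.lcm_one_left]

theorem sm_eq (l : List ℕ) : (((l : Multiset ℕ).filter (fun i => 2 ≤ i)).sum) = sm l := by
  induction l with
  | nil => simp [sm]
  | cons a l ih =>
    rw [← Multiset.cons_coe, sm, ← ih]
    by_cases h : 2 ≤ a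
    · rw [Multiset.filter_cons_of_pos _ h, Multiset.sum_cons, if_pos h]
    · rw [Multiset.filter_cons_of_neg _ h, if_neg h, zero_add]

theorem lcm_T : ∀ k k' : Fin 15, (lc (T k') = OL.getD k 0 ∧
    sm (T k') = (univ.filter (fun i => fn (Rn k) i ≠ i)).card) → k' = k := by decide +kernel

theorem ty_R (k : Fin 15) : ty (R k) = (T k : Multiset ℕ) := by
  obtain ⟨k', hk⟩ := exists_T (s := ty (R k)) (by rw [ty_sum, Fintype.card_fin]) (ty_pos _)
  have h1 : (R k).cycleType = (T k' : Multiset ℕ).filter (fun i => 2 ≤ i) := by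
    rw [hk]; exact (Perm.filter_parts_partition_eq_cycleType (σ := R k)).symm
  have h2 := lcm_T k k' (by
    rw [← lc_eq, ← sm_eq, ← h1, Perm.lcm_cycleType, orderOf_R, Perm.sum_cycleType, support_R]; exact ⟨rfl, rfl⟩)
  rw [← hk, h2]

theorem isConj_of_ty {s : Perm (Fin 7)} {k : Fin 15} (h : ty s = (T k : Multiset ℕ)) : IsConj (R k) s := by
  rw [← ty_eq_iff, ty_R, h]

/-! ### The class sum of the transpositions -/

variable {ψ : Perm (Fin 7) → ℤ}

theorem psi_conj (hc : ∀ g s, ψ (g * s * g⁻¹) = ψ s) {s t : Perm (Fin 7)} (h : IsConj s t) : ψ s = ψ t := by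
  obtain ⟨g, rfl⟩ := isConj_iff.1 h
  exact (hc g s).symm

open Classical in
theorem sum_swap {X : Type*} [AddCommMonoid X] (F : Perm (Fin 7) → X) :
    ∑ t : Perm (Fin 7) with t.IsSwap, F t = ∑ n : Fin 21, F (tr n) := by
  symm
  refine Finset.sum_bij (fun n _ => tr n) (fun n _ => ?_) (fun n _ m _ h => tr_inj h) (fun t ht => ?_)
    (fun n _ => rfl)
  · rw [Finset.mem_filter]; exact ⟨Finset.mem_univ _, isSwap_tr n⟩
  · rw [Finset.mem_filter] at ht
    obtain ⟨a, b, hab, h⟩ := ht.2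
    obtain ⟨n, hn⟩ := exists_tr a b hab
    exact ⟨n, Finset.mem_univ _, by rw [hn, h]⟩

open Classical in
theorem sum_R (hc : ∀ g s, ψ (g * s * g⁻¹) = ψ s) (k : Fin 15) :
    ∑ t : Perm (Fin 7) with t.IsSwap, ψ (R k * t) = ∑ j : Fin 15, (Mt k j : ℤ) * ψ (R j) := by
  rw [sum_swap]
  have h1 : ∀ n : Fin 21, ψ (R k * tr n) = ψ (R (C k n)) := fun n => by
    rw [← hc (P (Wn k n)) (R (C k n)), W_spec k n, mul_inv_cancel_right]
  rw [Finset.sum_congr rfl (fun n _ => h1 n), ← Finset.sum_fiberwise univ (fun n => C k n)]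
  refine Finset.sum_congr rfl fun j _ => ?_
  rw [Finset.sum_congr rfl (g := fun _ => ψ (R j)) (fun n hn => by rw [(Finset.mem_filter.1 hn).2]),
    Finset.sum_const, count_C, nsmul_eq_mul]

def L15 (k : Fin 15) : ℤ := ([2, 2, 2, 4, 3, 4, 2, 2, 3, 4, 2, 0, 0, 0, 0] : List ℤ).getD k 0
def L35 (k : Fin 15) : ℤ := ([1, 4, 3, 4, 0, 2, 4, 2, 4, 3, 0, 0, 0, 0, 0] : List ℤ).getD k 0
def c15 (k : Fin 15) : ℤ := ([3, 21, -21, -63, 42, -84, -42, 0, 42, -126, 84, 0, 0, 0, 144] : List ℤ).getD k 0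
def c35 (k : Fin 15) : ℤ := ([7, -21, -21, -21, -14, 84, -42, -56, 42, 126, 84, 0, 0, -168, 0] : List ℤ).getD k 0
def d15 (k : Fin 15) : ℤ := if k = 2 then 1 else if k = 4 then -1 else 0
def d35 (k : Fin 15) : ℤ := if k = 4 then 1 else if k = 2 then -2 else 0

theorem id15 : ∀ j : Fin 15, (5 : ℤ) ∣ c15 j - 1008 * d15 j - (∑ k, L15 k * (Mt k j : ℤ) - 2 * L15 j) := by
  decide +kernel

theorem id35 : ∀ j : Fin 15, (5 : ℤ) ∣ c35 j - 1008 * d35 j - (∑ k, L35 k * (Mt k j : ℤ) - 2 * L35 j) := by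
  decide +kernel

theorem lin {c d L x : Fin 15 → ℤ}
    (hid : ∀ j : Fin 15, (5 : ℤ) ∣ c j - 1008 * d j - (∑ k, L k * (Mt k j : ℤ) - 2 * L j))
    (hx : ∀ k : Fin 15, (5 : ℤ) ∣ ∑ j, (Mt k j : ℤ) * x j - 2 * x k) {w : ℤ} (hw : 1008 * w = ∑ j, c j * x j) :
    (5 : ℤ) ∣ w - ∑ j, d j * x j := by
  have h1 : (5 : ℤ) ∣ ∑ j, (c j - 1008 * d j - (∑ k, L k * (Mt k j : ℤ) - 2 * L j)) * x j :=
    Finset.dvd_sum fun j _ => (hid j).mul_right _
  have h2 : (5 : ℤ) ∣ ∑ k, L k * (∑ j, (Mt k j : ℤ) * x j - 2 * x k) :=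
    Finset.dvd_sum fun k _ => (hx k).mul_left _
  have h3 : ∑ k, L k * (∑ j, (Mt k j : ℤ) * x j - 2 * x k) =
      ∑ j, (∑ k, L k * (Mt k j : ℤ) - 2 * L j) * x j := by
    simp only [mul_sub, sub_mul, Finset.sum_sub_distrib, Finset.mul_sum, Finset.sum_mul]
    rw [Finset.sum_comm]
    congr 1
    · exact Finset.sum_congr rfl fun j _ => Finset.sum_congr rfl fun k _ => by ring
    · exact Finset.sum_congr rfl fun j _ => by ring
  have h4 : ∑ j, (c j - 1008 * d j - (∑ k, L k * (Mt k j : ℤ) - 2 * L j)) * x j =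
      1008 * (w - ∑ j, d j * x j) - ∑ k, L k * (∑ j, (Mt k j : ℤ) * x j - 2 * x k) := by
    rw [h3, mul_sub, hw, Finset.mul_sum, ← Finset.sum_sub_distrib, ← Finset.sum_sub_distrib]
    exact Finset.sum_congr rfl fun j _ => by ring
  rw [h4] at h1
  have h5 : (5 : ℤ) ∣ 1008 * (w - ∑ j, d j * x j) := by
    have := dvd_add h1 h2
    rwa [sub_add_cancel] at this
  exact (IsCoprime.dvd_of_dvd_mul_left (by norm_num [Int.isCoprime_iff_gcd_eq_one]) h5)

/-- the multiplicity as a sum over the 15 classes -/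
theorem inner_sum (hc : ∀ g s, ψ (g * s * g⁻¹) = ψ s) {m : ℕ} (β : Fin m → ℕ) {w : ℤ}
    (hw : classInner (fun s : Perm (Fin 7) => (ψ s : ℂ)) (ch (Fin 7) β) = (w : ℂ)) :
    (w : ℚ) = ∑ k : Fin 15, (ψ (R k) : ℚ) * (FM (T k : Multiset ℕ) β : ℚ) / (zz (T k : Multiset ℕ) : ℚ) := by
  classical
  let f : Multiset ℕ → ℚ := fun t => if h : ∃ k : Fin 15, (T k : Multiset ℕ) = t then (ψ (R h.choose) : ℚ) else 0
  have hT : ∀ k k' : Fin 15, (T k : Multiset ℕ) = T k' → k = k' := by decide +kernel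
  have hf : ∀ k : Fin 15, f (T k : Multiset ℕ) = (ψ (R k) : ℚ) := by
    intro k
    have h : ∃ k' : Fin 15, (T k' : Multiset ℕ) = (T k : Multiset ℕ) := ⟨k, rfl⟩
    have h1 : h.choose = k := hT _ _ h.choose_spec
    simp only [f]
    rw [dif_pos h, h1]
  have hψ : (fun s : Perm (Fin 7) => (ψ s : ℂ)) = fun s => (f (ty s) : ℂ) := by
    funext s
    obtain ⟨k, hk⟩ := exists_T (s := ty s) (by rw [ty_sum, Fintype.card_fin]) (ty_pos _)
    rw [← hk, hf k, psi_conj hc (isConj_of_ty hk.symm)]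
    push_cast
    rfl
  have hch : ch (Fin 7) β = fun s : Perm (Fin 7) => (((FM (ty s) β : ℤ) : ℚ) : ℂ) := by
    funext s
    rw [ch_apply]
    push_cast
    rfl
  rw [hψ, hch, classInner_ty (α := Fin 7) f (fun t => ((FM t β : ℤ) : ℚ)), Fintype.card_fin, Z_seven] at hw
  have h2 : (∑ k : Fin 15, f (T k : Multiset ℕ) * ((FM (T k : Multiset ℕ) β : ℤ) : ℚ) /
      (zz (T k : Multiset ℕ) : ℚ) : ℚ) = (w : ℚ) := by exact_mod_cast hw
  rw [← h2]
  exact Finset.sum_congr rfl fun k _ => by rw [hf k]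

theorem coef15 (k : Fin 15) : (1008 * FM (T k : Multiset ℕ) b15 : ℤ) = c15 k * (zz (T k : Multiset ℕ) : ℤ) := by
  rw [val15, zz_T]
  revert k
  decide +kernel

theorem coef35 (k : Fin 15) : (1008 * FM (T k : Multiset ℕ) b35 : ℤ) = c35 k * (zz (T k : Multiset ℕ) : ℤ) := by
  rw [val35, zz_T]
  revert k
  decide +kernel

theorem zz_ne (k : Fin 15) : (zz (T k : Multiset ℕ) : ℚ) ≠ 0 := by
  have h : ∀ k : Fin 15, zz (T k : Multiset ℕ) ≠ 0 := by decide +kernel
  exact_mod_cast h k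

theorem inner_int (hc : ∀ g s, ψ (g * s * g⁻¹) = ψ s) {m : ℕ} {β : Fin m → ℕ} {c : Fin 15 → ℤ}
    (hco : ∀ k : Fin 15, (1008 * FM (T k : Multiset ℕ) β : ℤ) = c k * (zz (T k : Multiset ℕ) : ℤ)) {w : ℤ}
    (hw : classInner (fun s : Perm (Fin 7) => (ψ s : ℂ)) (ch (Fin 7) β) = (w : ℂ)) :
    1008 * w = ∑ j, c j * ψ (R j) := by
  have h1 := inner_sum hc β hw
  have h2 : (1008 * w : ℚ) = ∑ j, (c j : ℚ) * (ψ (R j) : ℚ) := by
    rw [h1, Finset.mul_sum]
    refine Finset.sum_congr rfl fun k _ => ?_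
    have h3 : (1008 * (FM (T k : Multiset ℕ) β : ℚ)) = (c k : ℚ) * (zz (T k : Multiset ℕ) : ℚ) := by
      exact_mod_cast hco k
    have h4 := zz_ne k
    field_simp
    linear_combination (ψ (R k) : ℚ) * h3
  exact_mod_cast h2

open Classical in
/-- the hypotheses on `psi` -/
structure Eig (ψ : Perm (Fin 7) → ℤ) : Prop where
  conj : ∀ g s, ψ (g * s * g⁻¹) = ψ s
  eig : ∀ s, (5 : ℤ) ∣ (∑ t : Perm (Fin 7) with t.IsSwap, ψ (s * t)) - 2 * ψ s

theorem Eig.dvd (h : Eig ψ) (k : Fin 15) : (5 : ℤ) ∣ ∑ j, (Mt k j : ℤ) * ψ (R j) - 2 * ψ (R k) := by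
  have h1 := h.eig (R k)
  rwa [sum_R h.conj k] at h1

theorem sum_d15 (x : Fin 15 → ℤ) : ∑ j, d15 j * x j = x 2 - x 4 := by
  simp [Fin.sum_univ_succ, d15]
  ring

theorem sum_d35 (x : Fin 15 → ℤ) : ∑ j, d35 j * x j = x 4 - 2 * x 2 := by
  simp [Fin.sum_univ_succ, d35]
  ring

/-- representative of the double transpositions -/
theorem R_two : R 2 = swap 0 1 * swap 2 3 := by decide +kernel

/-- representative of the 3-cycles -/
theorem R_four : R 4 = swap 0 1 * swap 1 2 := by decide +kernel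

theorem main15 (h : Eig ψ) {w : ℤ}
    (hw : classInner (fun s : Perm (Fin 7) => (ψ s : ℂ)) (phi15 : Perm (Fin 7) → ℂ) = (w : ℂ)) :
    (5 : ℤ) ∣ w - (ψ (swap 0 1 * swap 2 3) - ψ (swap 0 1 * swap 1 2)) := by
  have h1 := lin id15 h.dvd (inner_int h.conj coef15 hw)
  rwa [sum_d15, R_two, R_four] at h1

theorem main35 (h : Eig ψ) {w : ℤ}
    (hw : classInner (fun s : Perm (Fin 7) => (ψ s : ℂ)) (phi35 : Perm (Fin 7) → ℂ) = (w : ℂ)) :
    (5 : ℤ) ∣ w - (ψ (swap 0 1 * swap 1 2) - 2 * ψ (swap 0 1 * swap 2 3)) := by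
  have h1 := lin id35 h.dvd (inner_int h.conj coef35 hw)
  rwa [sum_d35, R_two, R_four] at h1

/-! ### The values by cycle type -/

/-- the integer values of `phi15` -/
def t15 (s : Perm (Fin 7)) : ℤ := FM (ty s) b15

/-- the integer values of `phi35` -/
def t35 (s : Perm (Fin 7)) : ℤ := FM (ty s) b35

theorem phi15_int (s : Perm (Fin 7)) : (phi15 : Perm (Fin 7) → ℂ) s = (t15 s : ℂ) := rfl

theorem phi35_int (s : Perm (Fin 7)) : (phi35 : Perm (Fin 7) → ℂ) s = (t35 s : ℂ) := rfl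

theorem ty_of_cycleType {s : Perm (Fin 7)} {c : Multiset ℕ} (h : s.cycleType = c) :
    ty s = c + Multiset.replicate (7 - c.sum) 1 := by
  unfold ty
  rw [Perm.parts_partition, h, ← Perm.sum_cycleType, h, Fintype.card_fin]

theorem t15_of {s : Perm (Fin 7)} {c : Multiset ℕ} (k : Fin 15) (h : s.cycleType = c)
    (hk : c + Multiset.replicate (7 - c.sum) 1 = (T k : Multiset ℕ)) :
    t15 s = (![15, 5, -1, -3, 3, -1, -1, 0, 1, -1, 1, 0, 0, 0, 1] : Fin 15 → ℤ) k := by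
  unfold t15; rw [ty_of_cycleType h, hk, val15]

theorem t35_of {s : Perm (Fin 7)} {c : Multiset ℕ} (k : Fin 15) (h : s.cycleType = c)
    (hk : c + Multiset.replicate (7 - c.sum) 1 = (T k : Multiset ℕ)) :
    t35 s = (![35, -5, -1, -1, -1, 1, -1, -1, 1, 1, 1, 0, 0, -1, 0] : Fin 15 → ℤ) k := by
  unfold t35; rw [ty_of_cycleType h, hk, val35]

theorem t15_two {s : Perm (Fin 7)} (h : s.cycleType = {2, 2}) : t15 s = -1 :=
  t15_of 2 h (by decide +kernel)

theorem t15_three {s : Perm (Fin 7)} (h : s.IsThreeCycle) : t15 s = 3 :=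
  t15_of 4 h (by decide +kernel)

theorem t15_three_three {s : Perm (Fin 7)} (h : s.cycleType = {3, 3}) : t15 s = 0 :=
  t15_of 7 h (by decide +kernel)

theorem t35_two {s : Perm (Fin 7)} (h : s.cycleType = {2, 2}) : t35 s = -1 :=
  t35_of 2 h (by decide +kernel)

theorem t35_three {s : Perm (Fin 7)} (h : s.IsThreeCycle) : t35 s = -1 :=
  t35_of 4 h (by decide +kernel)

theorem t35_three_three {s : Perm (Fin 7)} (h : s.cycleType = {3, 3}) : t35 s = -1 :=
  t35_of 7 h (by decide +kernel)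

end Cfsg.Agent.H552.LD.SevenTab
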