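import Cfsg.Agent.H614.Chars
import Cfsg.Agent.H614.Height

/-!
# Pruned evaluation of Frobenius' functions for three and four beads (helper552)
-/

set_option autoImplicit false

namespace Cfsg.Agent.H552.LD.Frob

open Cfsg Cfsg.Agent.H614 Finset

theorem dn3_0 (a b c r : ℕ) : dn ![a, b, c] 0 r = ![a - r, b, c] := by
  funext i; fin_cases i <;> simp [dn]

theorem dn3_1 (a b c r : ℕ) : dn ![a, b, c] 1 r = ![a, b - r, c] := by
  funext i; fin_cases i <;> simp [dn]

theorem dn3_2 (a b c r : ℕ) : dn ![a, b, c] 2 r = ![a, b, c - r] := by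
  funext i; fin_cases i <;> simp [dn]

theorem dn4_0 (a b c d r : ℕ) : dn ![a, b, c, d] 0 r = ![a - r, b, c, d] := by
  funext i; fin_cases i <;> simp [dn]

theorem dn4_1 (a b c d r : ℕ) : dn ![a, b, c, d] 1 r = ![a, b - r, c, d] := by
  funext i; fin_cases i <;> simp [dn]

theorem dn4_2 (a b c d r : ℕ) : dn ![a, b, c, d] 2 r = ![a, b, c - r, d] := by
  funext i; fin_cases i <;> simp [dn]

theorem dn4_3 (a b c d r : ℕ) : dn ![a, b, c, d] 3 r = ![a, b, c, d - r] := by
  funext i; fin_cases i <;> simp [dn]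

def G3 : List ℕ → ℕ → ℕ → ℕ → ℤ
  | [], a, b, c => vac ![a, b, c]
  | r :: ν, a, b, c => if a = b ∨ a = c ∨ b = c then 0 else
      (if r ≤ a then G3 ν (a - r) b c else 0) + (if r ≤ b then G3 ν a (b - r) c else 0) +
      (if r ≤ c then G3 ν a b (c - r) else 0)

def G4 : List ℕ → ℕ → ℕ → ℕ → ℕ → ℤ
  | [], a, b, c, d => vac ![a, b, c, d]
  | r :: ν, a, b, c, d => if a = b ∨ a = c ∨ b = c ∨ a = d ∨ b = d ∨ c = d then 0 else
      (if r ≤ a then G4 ν (a - r) b c d else 0) + (if r ≤ b then G4 ν a (b - r) c d else 0) +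
      (if r ≤ c then G4 ν a b (c - r) d else 0) + (if r ≤ d then G4 ν a b c (d - r) else 0)

theorem F_zero {m : ℕ} (ν : List ℕ) {β : Fin m → ℕ} (h : ¬ Function.Injective β) : F ν β = 0 := by
  rw [← FM_coe]; exact FM_eq_zero_of_not_injective _ h

theorem not_inj {m : ℕ} {β : Fin m → ℕ} {i j : Fin m} (hij : i ≠ j) (h : β i = β j) : ¬ Function.Injective β :=
  fun hi => hij (hi h)

theorem G3_eq (ν : List ℕ) : ∀ a b c : ℕ, F ν ![a, b, c] = G3 ν a b c := by
  induction ν with
  | nil => intro a b c; rfl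
  | cons r ν ih =>
    intro a b c
    rw [G3]
    by_cases h : a = b ∨ a = c ∨ b = c
    · rw [if_pos h]
      apply F_zero
      rcases h with h | h | h
      · exact not_inj (i := 0) (j := 1) (by decide) (by simpa using h)
      · exact not_inj (i := 0) (j := 2) (by decide) (by simpa using h)
      · exact not_inj (i := 1) (j := 2) (by decide) (by simpa using h)
    · rw [if_neg h, F_cons, Fin.sum_univ_three, dn3_0, dn3_1, dn3_2, ih, ih, ih]
      simp only [Matrix.cons_val_zero, Matrix.cons_val_one, Matrix.cons_val]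
      congr

theorem G4_eq (ν : List ℕ) : ∀ a b c d : ℕ, F ν ![a, b, c, d] = G4 ν a b c d := by
  induction ν with
  | nil => intro a b c d; rfl
  | cons r ν ih =>
    intro a b c d
    rw [G4]
    by_cases h : a = b ∨ a = c ∨ b = c ∨ a = d ∨ b = d ∨ c = d
    · rw [if_pos h]
      apply F_zero
      rcases h with h | h | h | h | h | h
      · exact not_inj (i := 0) (j := 1) (by decide) (by simpa using h)
      · exact not_inj (i := 0) (j := 2) (by decide) (by simpa using h)
      · exact not_inj (i := 1) (j := 2) (by decide) (by simpa using h)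
      · exact not_inj (i := 0) (j := 3) (by decide) (by simpa using h)
      · exact not_inj (i := 1) (j := 3) (by decide) (by simpa using h)
      · exact not_inj (i := 2) (j := 3) (by decide) (by simpa using h)
    · rw [if_neg h, F_cons, Fin.sum_univ_four, dn4_0, dn4_1, dn4_2, dn4_3, ih, ih, ih, ih]
      simp only [Matrix.cons_val_zero, Matrix.cons_val_one, Matrix.cons_val]
      congr

end Cfsg.Agent.H552.LD.Frob
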