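import Cfsg.Agent.H614.Chars

/-!
# Sums over the 15 partitions of 7 (helper552)
-/

set_option autoImplicit false

namespace Cfsg.Agent.H552.LD.Part

open Cfsg Cfsg.Agent.H614 Finset

/-- the partitions of `n` with parts at most `m` (fuel `k`) -/
def pts : ℕ → ℕ → ℕ → List (List ℕ)
  | _, 0, _ => [[]]
  | 0, _ + 1, _ => []
  | k + 1, n + 1, m => (List.range (min (n + 1) m)).flatMap fun i => (pts k (n - i) (i + 1)).map (fun l => (i + 1) :: l)

theorem mem_pts (k : ℕ) : ∀ (n m : ℕ) (s : Multiset ℕ), n ≤ k → s.sum = n → (∀ i ∈ s, 0 < i ∧ i ≤ m) →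
    ∃ l ∈ pts k n m, (l : Multiset ℕ) = s := by
  induction k with
  | zero =>
    intro n m s hn hs hp
    have h0 : n = 0 := by omega
    subst h0
    refine ⟨[], by simp [pts], ?_⟩
    symm
    by_contra hne
    obtain ⟨a, ha⟩ := Multiset.exists_mem_of_ne_zero hne
    have h1 := (hp a ha).1
    have h2 := Multiset.le_sum_of_mem ha
    omega
  | succ k ih =>
    intro n m s hn hs hp
    cases n with
    | zero =>
      refine ⟨[], by simp [pts], ?_⟩
      symm
      by_contra hne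
      obtain ⟨a, ha⟩ := Multiset.exists_mem_of_ne_zero hne
      have h1 := (hp a ha).1
      have h2 := Multiset.le_sum_of_mem ha
      omega
    | succ n =>
      have hne : s ≠ 0 := by rintro rfl; simp at hs
      obtain ⟨r, hr, hmax⟩ : ∃ r ∈ s, ∀ i ∈ s, i ≤ r := by
        obtain ⟨a, ha⟩ := Multiset.exists_mem_of_ne_zero hne
        obtain ⟨r, hr, h⟩ := s.toFinset.exists_max_image id ⟨a, by simpa using ha⟩
        exact ⟨r, by simpa using hr, fun i hi => h i (by simpa using hi)⟩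
      obtain ⟨t, rfl⟩ := Multiset.exists_cons_of_mem hr
      obtain ⟨hr1, hr2⟩ := hp r hr
      rw [Multiset.sum_cons] at hs
      obtain ⟨l, hl, hlt⟩ := ih (n - (r - 1)) r t (by omega) (by omega)
        (fun i hi => ⟨(hp i (Multiset.mem_cons_of_mem hi)).1, hmax i (Multiset.mem_cons_of_mem hi)⟩)
      refine ⟨r :: l, ?_, by rw [← hlt]; rfl⟩
      rw [pts, List.mem_flatMap]
      refine ⟨r - 1, by rw [List.mem_range]; omega, ?_⟩
      rw [List.mem_map]
      refine ⟨l, ?_, by congr 1; omega⟩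
      rw [show r - 1 + 1 = r by omega]
      exact hl

/-- the 15 partitions of 7 -/
def TL : List (List ℕ) :=
  [[1,1,1,1,1,1,1], [2,1,1,1,1,1], [2,2,1,1,1], [2,2,2,1], [3,1,1,1,1], [3,2,1,1], [3,2,2], [3,3,1],
   [4,1,1,1], [4,2,1], [4,3], [5,1,1], [5,2], [6,1], [7]]

def T (k : Fin 15) : List ℕ := TL.get (k.cast rfl)

theorem exists_T {s : Multiset ℕ} (hs : s.sum = 7) (hp : ∀ i ∈ s, 0 < i) : ∃ k : Fin 15, (T k : Multiset ℕ) = s := by
  obtain ⟨l, hl, h⟩ := mem_pts 7 7 7 s le_rfl hs (fun i hi => ⟨hp i hi, by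
    rw [← hs]; exact Multiset.le_sum_of_mem hi⟩)
  have h1 : ∀ l ∈ pts 7 7 7, ∃ k : Fin 15, T k = l := by decide +kernel
  obtain ⟨k, hk⟩ := h1 l hl
  exact ⟨k, by rw [hk, h]⟩

def PT (k : Fin 15) : Nat.Partition 7 where
  parts := T k
  parts_pos := by
    intro i hi
    have h : ∀ k : Fin 15, ∀ i ∈ T k, 0 < i := by decide +kernel
    exact h k i (by simpa using hi)
  parts_sum := by
    have h : ∀ k : Fin 15, (T k).sum = 7 := by decide +kernel
    simpa using h k

theorem PT_inj : Function.Injective PT := by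
  intro k k' h
  have h1 : (T k : Multiset ℕ) = T k' := congrArg Nat.Partition.parts h
  have h2 : ∀ k k' : Fin 15, (T k : Multiset ℕ) = T k' → k = k' := by decide +kernel
  exact h2 k k' h1

theorem PT_surj : Function.Surjective PT := by
  intro ν
  obtain ⟨k, hk⟩ := exists_T ν.parts_sum (fun i hi => ν.parts_pos hi)
  exact ⟨k, Nat.Partition.ext hk⟩

theorem zz_T : ∀ k : Fin 15, zz (T k : Multiset ℕ) =
    (![5040, 240, 48, 48, 72, 12, 24, 18, 24, 8, 12, 10, 10, 6, 7] : Fin 15 → ℕ) k := by decide +kernel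

/-- the average over the partitions of 7 -/
theorem Z_seven (f : Multiset ℕ → ℚ) : Z 7 f = ∑ k : Fin 15, f (T k) / zz (T k : Multiset ℕ) := by
  unfold Z
  rw [← (Equiv.ofBijective PT ⟨PT_inj, PT_surj⟩).sum_comp (fun ν : Nat.Partition 7 => f ν.parts / zz ν.parts)]
  rfl

end Cfsg.Agent.H552.LD.Part
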