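import Cfsg.Agent.H552.LD.Part
import Cfsg.Agent.H552.LD.Frob

/-!
# Two 5-defect zero characters of `S₇` and the transposition class sum modulo 5 (helper552)

`phi15` = [5,1,1] (degree 15), `phi35` = [3,2,1,1] (degree 35), both with value `-1` at `(12)(34)`.
`main15`, `main35` : the multiplicities modulo 5 of these two characters in an integer valued class function `psi` of
`S₇` that is, modulo 5, an eigenvector of the class sum of the transpositions with eigenvalue 2 and vanishes modulo 5
at 1, at the transpositions and at the elements of order divisible by 5.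
-/

set_option autoImplicit false

namespace Cfsg.Agent.H552.LD.SevenTab

open Cfsg Cfsg.Agent.H614 Cfsg.Agent.H552.LD.Part Equiv Finset

/-! ### The characters -/

def b15 : Fin 3 → ℕ := ![1, 2, 7]

def b35 : Fin 4 → ℕ := ![1, 2, 4, 6]

theorem mono15 : StrictMono b15 := by rw [Fin.strictMono_iff_lt_succ]; decide +kernel

theorem mono35 : StrictMono b35 := by rw [Fin.strictMono_iff_lt_succ]; decide +kernel

noncomputable def phi15 : IrrCharacter (Perm (Fin 7)) :=
  ⟨ch (Fin 7) b15, isIrr_ch mono15 (by rw [Fintype.card_fin]; decide +kernel)⟩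

noncomputable def phi35 : IrrCharacter (Perm (Fin 7)) :=
  ⟨ch (Fin 7) b35, isIrr_ch mono35 (by rw [Fintype.card_fin]; decide +kernel)⟩

theorem val15 : ∀ k : Fin 15, FM (T k : Multiset ℕ) b15 =
    (![15, 5, -1, -3, 3, -1, -1, 0, 1, -1, 1, 0, 0, 0, 1] : Fin 15 → ℤ) k := by
  intro k
  rw [FM_coe]
  unfold b15
  rw [Frob.G3_eq]
  revert k
  decide +kernel

theorem val35 : ∀ k : Fin 15, FM (T k : Multiset ℕ) b35 =
    (![35, -5, -1, -1, -1, 1, -1, -1, 1, 1, 1, 0, 0, -1, 0] : Fin 15 → ℤ) k := by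
  intro k
  rw [FM_coe]
  unfold b35
  rw [Frob.G4_eq]
  revert k
  decide +kernel

theorem phi15_apply {s : Perm (Fin 7)} {k : Fin 15} (h : ty s = (T k : Multiset ℕ)) :
    (phi15 : Perm (Fin 7) → ℂ) s = ((![15, 5, -1, -3, 3, -1, -1, 0, 1, -1, 1, 0, 0, 0, 1] : Fin 15 → ℤ) k : ℂ) := by
  show ch (Fin 7) b15 s = _
  rw [ch_apply, h, val15]

theorem phi35_apply {s : Perm (Fin 7)} {k : Fin 15} (h : ty s = (T k : Multiset ℕ)) :
    (phi35 : Perm (Fin 7) → ℂ) s = ((![35, -5, -1, -1, -1, 1, -1, -1, 1, 1, 1, 0, 0, -1, 0] : Fin 15 → ℤ) k : ℂ) := by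
  show ch (Fin 7) b35 s = _
  rw [ch_apply, h, val35]

theorem ty_one' : ty (1 : Perm (Fin 7)) = (T 0 : Multiset ℕ) := by
  rw [ty_one, Fintype.card_fin]; decide +kernel

theorem phi15_one : (phi15 : Perm (Fin 7) → ℂ) 1 = 15 := by
  rw [phi15_apply ty_one']; simp

theorem phi35_one : (phi35 : Perm (Fin 7) → ℂ) 1 = 35 := by
  rw [phi35_apply ty_one']; simp

theorem deg15 : charDegree (phi15 : Perm (Fin 7) → ℂ) = 15 := by
  unfold charDegree; rw [phi15_one]; simp

theorem deg35 : charDegree (phi35 : Perm (Fin 7) → ℂ) = 35 := by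
  unfold charDegree; rw [phi35_one]; simp

theorem card_perm : Nat.card (Perm (Fin 7)) = 5040 := by
  rw [Nat.card_eq_fintype_card, Fintype.card_perm, Fintype.card_fin]; decide +kernel

theorem fac_five {n : ℕ} (m : ℕ) (h : n = 5 * m) (hm : ¬ 5 ∣ m) : n.factorization 5 = 1 := by
  rw [h, Nat.factorization_mul (by norm_num) (by rintro rfl; exact hm (dvd_zero _)), Finsupp.add_apply,
    (by norm_num : Nat.Prime 5).factorization_self, Nat.factorization_eq_zero_of_not_dvd hm]

theorem defect15 : (charDegree (phi15 : Perm (Fin 7) → ℂ)).factorization 5 =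
    (Nat.card (Perm (Fin 7))).factorization 5 := by
  rw [deg15, card_perm, fac_five 3 (by norm_num) (by norm_num), fac_five 1008 (by norm_num) (by norm_num)]

theorem defect35 : (charDegree (phi35 : Perm (Fin 7) → ℂ)).factorization 5 =
    (Nat.card (Perm (Fin 7))).factorization 5 := by
  rw [deg35, card_perm, fac_five 7 (by norm_num) (by norm_num), fac_five 1008 (by norm_num) (by norm_num)]

end Cfsg.Agent.H552.LD.SevenTab
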